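import Cfsg.Agent.Lib.Helper84.OE.YHP
import Cfsg.Agent.Lib.Helper81.OE.YBase

set_option autoImplicit false
set_option linter.unusedSectionVars false

namespace Cfsg.Agent.Lib.Helper81.OE

open Cfsg Cfsg.Geo Matrix Cfsg.Agent.Lib.Helper13.Asch Cfsg.Agent.Lib.Helper90.Sp
open Cfsg.Agent.Lib.Helper57.OE
open scoped Kronecker MatrixGroups

variable {ι : Type} [Fintype ι] [DecidableEq ι] {F : Type*} [Field F] {Q : (ι → F) → F}

theorem eq_zero_or_one_of_card_two [Fintype F] (hq : Fintype.card F = 2) (x : F) : x = 0 ∨ x = 1 := by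
  classical
  by_contra hcon
  push Not at hcon
  have : ({0, 1, x} : Finset F).card = 3 := by
    rw [Finset.card_insert_of_notMem, Finset.card_insert_of_notMem, Finset.card_singleton]
    · simp [hcon.2.symm]
    · simp [hcon.1.symm]
  have h := Finset.card_le_univ ({0, 1, x} : Finset F)
  omega

/-- YP2 -/
theorem planes_plus_two [Fintype F] (hq : Fintype.card F = 2) (hQ : IsNondegenerateQuadraticForm Q)
    {H : Subgroup (GL ι F)} (hH : FixesQuadForm (matrixSet H) Q) {t : ℕ}
    (D : Fin t → Submodule F (ι → F)) (hD : IsOrthogonalMDecomposition Q 2 D)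
    (hplus : ∀ i, IsPlusTypeOn Q (D i)) (hHD : H ≤ decompositionStabilizer D) :
    RSing Q H ∨ RVec Q H := by
  have hdec := hD.decomp
  -- the unique vector with `Q = 1` in each block
  have hloc : ∀ i, ∃ v : ι → F, v ∈ D i ∧ Q v = 1 ∧ ∀ w ∈ D i, Q w = 1 → w = v := by
    intro i
    obtain ⟨e, f, he, hf, -, -, -, hall, hQef⟩ :=
      Cfsg.Agent.Lib.Helper84.OE.hyperbolic_plane hQ (D i) (hdec.nondegenerate i)
        (hdec.decomp.finrank_eq i) (hplus i)
    refine ⟨(1 : F) • e + (1 : F) • f, (D i).add_mem ((D i).smul_mem _ he) ((D i).smul_mem _ hf),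
      by rw [hQef]; ring, ?_⟩
    intro w hw hQw
    obtain ⟨a, b, rfl⟩ := hall w hw
    rw [hQef] at hQw
    have ha : a = 1 := by
      rcases eq_zero_or_one_of_card_two hq a with h | h
      · rw [h, zero_mul] at hQw; exact absurd hQw zero_ne_one
      · exact h
    have hb : b = 1 := by
      rcases eq_zero_or_one_of_card_two hq b with h | h
      · rw [h, mul_zero] at hQw; exact absurd hQw zero_ne_one
      · exact h
    rw [ha, hb]
  choose v hvD hvQ hvu using hloc
  have hQ0 : Q 0 = 0 := by
    have := hQ.smul 0 0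
    simpa using this
  have hv0 : ∀ i, v i ≠ 0 := by
    intro i h
    have := hvQ i
    rw [h, hQ0] at this
    exact zero_ne_one this
  have hli : LinearIndependent F v := hdec.decomp.indep.linearIndependent D hvD hv0
  have ht : 0 < t := by have := hdec.decomp.two_le; omega
  set u : ι → F := ∑ i, v i with hu
  have hu0 : u ≠ 0 := by
    intro h
    have h1 := Fintype.linearIndependent_iff.mp hli (fun _ => 1) (by simpa using h) ⟨0, ht⟩
    exact one_ne_zero h1
  have hfix : ∀ g ∈ H, (g : Matrix ι ι F) *ᵥ u = u := by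
    intro g hg
    obtain ⟨σ, hσ⟩ := exists_perm_mem hHD g hg
    have h1 : ∀ i, (g : Matrix ι ι F) *ᵥ v i = v (σ i) := by
      intro i
      apply hvu
      · exact hσ i _ (hvD i)
      · rw [Q_mulVec hH g hg, hvQ]
    rw [hu, Matrix.mulVec_sum]
    simp only [h1]
    exact Equiv.sum_comp σ v
  have hstab : H ≤ subspaceStabilizer (Submodule.span F {u}) := by
    apply le_stab_span
    intro g hg w hw
    rw [Set.mem_singleton_iff] at hw
    rw [hw, hfix g hg]
    exact Submodule.mem_span_singleton_self u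
  by_cases hQu : Q u = 0
  · left
    refine ⟨Submodule.span F {u}, ?_, ?_, hstab⟩
    · rw [Ne, Submodule.span_singleton_eq_bot]
      exact hu0
    · intro w hw
      obtain ⟨a, rfl⟩ := Submodule.mem_span_singleton.mp hw
      rw [hQ.smul, hQu, mul_zero]
  · right
    exact ⟨u, hQu, hstab⟩

end Cfsg.Agent.Lib.Helper81.OE
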