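import Cfsg.Agent.Lib.Helper84.OE.YHP
import Cfsg.Agent.Lib.Helper81.OE.YBase

set_option autoImplicit false
set_option linter.unusedSectionVars false

namespace Cfsg.Agent.Lib.Helper81.OE

open Cfsg Cfsg.Geo Matrix Cfsg.Agent.Lib.Helper13.Asch Cfsg.Agent.Lib.Helper90.Sp
open Cfsg.Agent.Lib.Helper57.OE
open scoped Kronecker MatrixGroups

variable {ι : Type} [Fintype ι] [DecidableEq ι] {F : Type*} [Field F] {Q : (ι → F) → F}

/-- YP3 -/
theorem planes_plus_three [Fintype F] (hq : Fintype.card F = 3)
    (hQ : IsNondegenerateQuadraticForm Q)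
    {H : Subgroup (GL ι F)} (hH : FixesQuadForm (matrixSet H) Q) {t : ℕ}
    (D : Fin t → Submodule F (ι → F)) (hD : IsOrthogonalMDecomposition Q 2 D)
    (hplus : ∀ i, IsPlusTypeOn Q (D i)) (hHD : H ≤ decompositionStabilizer D) :
    RNd Q H := by
  have hdec := hD.decomp
  have h3 : (3 : F) = 0 := by
    have := Nat.cast_card_eq_zero F
    rw [hq] at this
    exact_mod_cast this
  have h2 : (2 : F) ≠ 0 := by
    intro h
    have : (1 : F) = 0 := by linear_combination h3 - h
    exact one_ne_zero this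
  have hpow : ∀ x : F, x ^ 3 = x := by
    intro x
    have := FiniteField.pow_card x
    rwa [hq] at this
  have hloc : ∀ i, ∃ v : ι → F, v ∈ D i ∧ Q v = 1 ∧ ∀ w ∈ D i, Q w = 1 → w = v ∨ w = -v := by
    intro i
    obtain ⟨e, f, he, hf, -, -, -, hall, hQef⟩ :=
      Cfsg.Agent.Lib.Helper84.OE.hyperbolic_plane hQ (D i) (hdec.nondegenerate i)
        (hdec.decomp.finrank_eq i) (hplus i)
    refine ⟨(1 : F) • e + (1 : F) • f, (D i).add_mem ((D i).smul_mem _ he) ((D i).smul_mem _ hf),
      by rw [hQef]; ring, ?_⟩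
    intro w hw hQw
    obtain ⟨a, b, rfl⟩ := hall w hw
    rw [hQef] at hQw
    have ha : a * (a - 1) * (a + 1) = 0 := by linear_combination hpow a
    rcases mul_eq_zero.mp ha with ha | ha
    · rcases mul_eq_zero.mp ha with ha | ha
      · rw [ha, zero_mul] at hQw; exact absurd hQw zero_ne_one
      · have ha1 : a = 1 := by linear_combination ha
        have hb1 : b = 1 := by rw [ha1] at hQw; linear_combination hQw
        left; rw [ha1, hb1]
    · have ha1 : a = -1 := by linear_combination ha
      have hb1 : b = -1 := by rw [ha1] at hQw; linear_combination (-1) * hQw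
      right; rw [ha1, hb1]; module
  choose v hvD hvQ hvu using hloc
  have hQ0 : Q 0 = 0 := by
    have := hQ.smul 0 0
    simpa using this
  have hv0 : ∀ i, v i ≠ 0 := by
    intro i h
    have := hvQ i
    rw [h, hQ0] at this
    exact zero_ne_one this
  have ht : 0 < t := by have := hdec.decomp.two_le; omega
  have hcard := Cfsg.Agent.Lib.Helper55.Asch.card_of_decomp D hdec.decomp
  refine ⟨Submodule.span F (Set.range v), ?_, ?_, ?_, ?_⟩
  · intro h
    have : v ⟨0, ht⟩ ∈ Submodule.span F (Set.range v) := Submodule.subset_span ⟨_, rfl⟩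
    rw [h, Submodule.mem_bot] at this
    exact hv0 _ this
  · intro h
    have h1 : Module.finrank F (Submodule.span F (Set.range v)) ≤ Fintype.card (Fin t) :=
      finrank_range_le_card v
    rw [h, finrank_top, Module.finrank_fintype_fun_eq_card, Fintype.card_fin, ← hcard] at h1
    omega
  · intro w hw hw0
    obtain ⟨c, rfl⟩ := (Submodule.mem_span_range_iff_exists_fun F).mp hw
    obtain ⟨j, hj⟩ : ∃ j, c j ≠ 0 := by
      by_contra hcon
      push Not at hcon
      apply hw0
      simp [hcon]
    have hval : QuadraticMap.polar Q (v j) (∑ i, c i • v i) = c j * 2 := by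
      rw [polar_sum_right hQ, Finset.sum_eq_single j]
      · rw [polar_self' hQ, hvQ, mul_one]
      · intro b _ hb
        rw [hdec.orthogonal j b hb.symm _ (hvD j) _ (hvD b), mul_zero]
      · simp
    have hne : c j * 2 ≠ 0 := mul_ne_zero hj h2
    have hvj : v j ∈ Submodule.span F (Set.range v) := Submodule.subset_span ⟨_, rfl⟩
    refine ⟨⟨v j, hvj, by rw [hval]; exact hne⟩, ⟨v j, hvj, ?_⟩⟩
    rw [QuadraticMap.polar_comm, hval]
    exact hne
  · apply le_stab_span
    rintro g hg _ ⟨i, rfl⟩
    obtain ⟨σ, hσ⟩ := exists_perm_mem hHD g hg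
    have hvs : v (σ i) ∈ Submodule.span F (Set.range v) := Submodule.subset_span ⟨_, rfl⟩
    rcases hvu (σ i) _ (hσ i _ (hvD i)) (by rw [Q_mulVec hH g hg, hvQ]) with h | h
    · rw [h]; exact hvs
    · rw [h]; exact Submodule.neg_mem _ hvs

end Cfsg.Agent.Lib.Helper81.OE
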